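import Mathlib
import Groth.Agent.Lib.Helper7.SmoothBC.Alg
import Groth.Agent.Lib.Helper7.SmoothBC.GeomRed
import Groth.Agent.Lib.Helper7.NearGen.Alg

/-! helper7: base change of a localization away from an element: it is the localization of the
base change, with consequences for power torsion and smoothness. -/

set_option linter.style.haveILetI false
set_option linter.unusedVariables false
set_option linter.unusedSectionVars false
set_option autoImplicit false

open scoped TensorProduct

namespace Groth.Agent.Helper7.GeomRedGen

universe u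

section Loc

variable (R K C : Type u) [CommRing R] [CommRing K] [Algebra R K] [CommRing C] [Algebra R C]
  (b : C) (D : Type u) [CommRing D] [Algebra R D] [Algebra C D] [IsScalarTower R C D]
  [IsLocalization.Away b D]

/-- The base change of a localization away from an element is the localization of the base
change away from the image of that element. -/
theorem isLocalization_away_tensor :
    letI : Algebra (K ⊗[R] C) (K ⊗[R] D) :=
      (Algebra.TensorProduct.map (AlgHom.id R K) (IsScalarTower.toAlgHom R C D)).toAlgebra
    IsLocalization.Away ((1 : K) ⊗ₜ[R] b) (K ⊗[R] D) := by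
  letI : Algebra (K ⊗[R] C) (K ⊗[R] D) :=
    (Algebra.TensorProduct.map (AlgHom.id R K) (IsScalarTower.toAlgHom R C D)).toAlgebra
  haveI : IsScalarTower K (K ⊗[R] C) (K ⊗[R] D) :=
    .of_algebraMap_eq <| by intro; simp [RingHom.algebraMap_toAlgebra]
  have h := IsLocalization.tensorProduct_tensorProduct_right R K (Submonoid.powers b) D
    (by ext; simp [RingHom.algebraMap_toAlgebra])
  rw [Submonoid.map_powers] at h
  exact h

/-- An element of a base change dying in the base change of a localization away from `b` is
killed by a power of the image of `b`. -/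
theorem exists_pow_mul_eq_zero_of_map_eq_zero (c : K ⊗[R] C)
    (hc : Algebra.TensorProduct.map (AlgHom.id R K) (IsScalarTower.toAlgHom R C D) c = 0) :
    ∃ n : ℕ, ((1 : K) ⊗ₜ[R] b) ^ n * c = 0 := by
  letI : Algebra (K ⊗[R] C) (K ⊗[R] D) :=
    (Algebra.TensorProduct.map (AlgHom.id R K) (IsScalarTower.toAlgHom R C D)).toAlgebra
  haveI := isLocalization_away_tensor R K C b D
  have h0 : algebraMap (K ⊗[R] C) (K ⊗[R] D) c = 0 := hc
  rw [IsLocalization.map_eq_zero_iff (Submonoid.powers ((1 : K) ⊗ₜ[R] b))] at h0
  obtain ⟨⟨m, n, rfl⟩, hmc⟩ := h0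
  exact ⟨n, hmc⟩

/-- Smoothness of the localization of a base change passes to the base change of the
localization. -/
theorem smooth_tensor_away [Algebra.Smooth K (Localization.Away ((1 : K) ⊗ₜ[R] b))] :
    Algebra.Smooth K (K ⊗[R] D) := by
  letI : Algebra (K ⊗[R] C) (K ⊗[R] D) :=
    (Algebra.TensorProduct.map (AlgHom.id R K) (IsScalarTower.toAlgHom R C D)).toAlgebra
  haveI : IsScalarTower K (K ⊗[R] C) (K ⊗[R] D) :=
    .of_algebraMap_eq <| by intro; simp [RingHom.algebraMap_toAlgebra]
  haveI := isLocalization_away_tensor R K C b D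
  let e : Localization.Away ((1 : K) ⊗ₜ[R] b) ≃ₐ[K ⊗[R] C] K ⊗[R] D :=
    IsLocalization.algEquiv (Submonoid.powers ((1 : K) ⊗ₜ[R] b)) _ _
  exact Algebra.Smooth.of_equiv (e.restrictScalars K)

end Loc

end Groth.Agent.Helper7.GeomRedGen
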