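import Mathlib
import Groth.Agent.Lib.Helper7.GeomRedGen.Loc
import Groth.Agent.Lib.Helper9.GenFree.Forms

/-! helper7: spreading out smoothness of the generic fibre of a finite type algebra over a
domain, and reducedness of the fibres near the generic point. -/

set_option linter.style.haveILetI false
set_option linter.unusedVariables false
set_option linter.unusedSectionVars false
set_option autoImplicit false

open scoped TensorProduct

namespace Groth.Agent.Helper7.GeomRedGen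

universe u

section Spread

variable (R₁ K₀ C₁ : Type u) [CommRing R₁] [IsDomain R₁] [Field K₀] [Algebra R₁ K₀]
  [IsFractionRing R₁ K₀] [CommRing C₁] [Algebra R₁ C₁] [Algebra.FinitePresentation R₁ C₁]

attribute [local instance] Algebra.TensorProduct.rightAlgebra in
/-- Primes over the generic point lie in the smooth locus when the generic fibre is smooth. -/
theorem mem_smoothLocus_of_comap_eq_bot [Algebra.Smooth K₀ (K₀ ⊗[R₁] C₁)]
    (q : PrimeSpectrum C₁) (hq : q.asIdeal.comap (algebraMap R₁ C₁) = ⊥) :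
    q ∈ Algebra.smoothLocus R₁ C₁ := by
  haveI : IsLocalization (Algebra.algebraMapSubmonoid C₁ (nonZeroDivisors R₁)) (K₀ ⊗[R₁] C₁) :=
    IsLocalization.tensorRight (R := R₁) (S := C₁) K₀ (nonZeroDivisors R₁)
  have hmem : q ∈ Set.range (PrimeSpectrum.comap (algebraMap C₁ (K₀ ⊗[R₁] C₁))) := by
    rw [PrimeSpectrum.localization_comap_range (K₀ ⊗[R₁] C₁)
      (Algebra.algebraMapSubmonoid C₁ (nonZeroDivisors R₁))]
    change Disjoint _ _
    rw [Set.disjoint_left]
    rintro _ ⟨r, hr, rfl⟩ hrq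
    have h1 : r ∈ q.asIdeal.comap (algebraMap R₁ C₁) := hrq
    rw [hq, Ideal.mem_bot] at h1
    exact nonZeroDivisors.ne_zero hr h1
  obtain ⟨q', rfl⟩ := hmem
  have hq' : q' ∈ Algebra.smoothLocus K₀ (K₀ ⊗[R₁] C₁) := by
    rw [Algebra.smoothLocus_eq_univ]
    exact Set.mem_univ _
  haveI : Module.Flat R₁ K₀ := IsLocalization.flat K₀ (nonZeroDivisors R₁)
  exact SmoothBC.mem_smoothLocus_of_baseChange_of_flat (R := R₁) (S := K₀) (T := C₁) q' hq'

/-- Smoothness of the generic fibre of a finitely presented algebra over a domain spreads out. -/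
theorem exists_smooth_away [Algebra.Smooth K₀ (K₀ ⊗[R₁] C₁)] :
    ∃ a : R₁, a ≠ 0 ∧ Algebra.Smooth R₁ (Localization.Away (algebraMap R₁ C₁ a)) := by
  classical
  let J : Ideal C₁ := PrimeSpectrum.vanishingIdeal (Algebra.smoothLocus R₁ C₁)ᶜ
  have hcl : IsClosed ((Algebra.smoothLocus R₁ C₁)ᶜ) :=
    (Algebra.isOpen_smoothLocus (R := R₁) (A := C₁)).isClosed_compl
  have hzl : PrimeSpectrum.zeroLocus (J : Set C₁) = (Algebra.smoothLocus R₁ C₁)ᶜ := by
    rw [PrimeSpectrum.zeroLocus_vanishingIdeal_eq_closure]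
    exact hcl.closure_eq
  have hJ : ∀ q : PrimeSpectrum C₁, q.asIdeal.comap (algebraMap R₁ C₁) = ⊥ →
      ¬ J ≤ q.asIdeal := by
    intro q hq hle
    have h1 : q ∈ PrimeSpectrum.zeroLocus (J : Set C₁) := by
      rw [PrimeSpectrum.mem_zeroLocus]
      exact hle
    rw [hzl] at h1
    exact h1 (mem_smoothLocus_of_comap_eq_bot R₁ K₀ C₁ q hq)
  haveI : (⊥ : Ideal R₁).IsPrime := Ideal.isPrime_bot
  obtain ⟨a, ha, hau⟩ := NearGen.exists_forall_mem_of_generic_empty_closed (A := R₁) (B := C₁)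
    ⊥ (fun q _ => bot_le) J hJ
  refine ⟨a, fun h0 => ha (by rw [h0]; exact Ideal.zero_mem _), ?_⟩
  rw [← Algebra.basicOpen_subset_smoothLocus_iff_smooth]
  intro u hu
  by_contra hns
  have h1 : u ∈ PrimeSpectrum.zeroLocus (J : Set C₁) := by
    rw [hzl]
    exact hns
  rw [PrimeSpectrum.mem_zeroLocus] at h1
  exact hu (hau u h1)

/-- Reducedness of the fibres near the generic point, finitely presented case. -/
theorem exists_forall_isReduced_of_smooth_fp [Algebra.Smooth K₀ (K₀ ⊗[R₁] C₁)] :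
    ∃ a : R₁, a ≠ 0 ∧ ∀ (K : Type u) [Field K] [Algebra R₁ K], algebraMap R₁ K a ≠ 0 →
      IsReduced (K ⊗[R₁] C₁) := by
  obtain ⟨a, ha, hsm⟩ := exists_smooth_away R₁ K₀ C₁
  refine ⟨a, ha, ?_⟩
  intro K _ _ haK
  haveI := hsm
  haveI : Algebra.Smooth K (K ⊗[R₁] Localization.Away (algebraMap R₁ C₁ a)) := inferInstance
  haveI : IsReduced (K ⊗[R₁] Localization.Away (algebraMap R₁ C₁ a)) :=
    SmoothBC.isReduced_of_smooth_field K _
  refine ⟨fun c hc => ?_⟩
  have h1 : IsNilpotent (Algebra.TensorProduct.map (AlgHom.id R₁ K)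
      (IsScalarTower.toAlgHom R₁ C₁ (Localization.Away (algebraMap R₁ C₁ a))) c) := hc.map _
  have h2 := h1.eq_zero
  obtain ⟨n, hn⟩ := exists_pow_mul_eq_zero_of_map_eq_zero R₁ K C₁ (algebraMap R₁ C₁ a)
    (Localization.Away (algebraMap R₁ C₁ a)) c h2
  have h3 : ((1 : K) ⊗ₜ[R₁] (algebraMap R₁ C₁ a)) = algebraMap K (K ⊗[R₁] C₁) (algebraMap R₁ K a) := by
    rw [Algebra.TensorProduct.algebraMap_apply, Algebra.algebraMap_self, RingHom.id_apply,
      Algebra.algebraMap_eq_smul_one, Algebra.algebraMap_eq_smul_one (A := K),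
      TensorProduct.smul_tmul]
  rw [h3, ← map_pow, ← Algebra.smul_def] at hn
  have h4 : algebraMap R₁ K a ^ n ≠ 0 := pow_ne_zero _ haK
  have h5 := congrArg (fun z => (algebraMap R₁ K a ^ n)⁻¹ • z) hn
  simp only [smul_zero] at h5
  rwa [smul_smul, inv_mul_cancel₀ h4, one_smul] at h5

end Spread

section GSR

variable (R K₀ C : Type u) [CommRing R] [IsDomain R] [Field K₀] [Algebra R K₀]
  [IsFractionRing R K₀] [CommRing C] [Algebra R C] [Algebra.FiniteType R C]

/-- Reducedness of the fibres near the generic point of a finite type algebra over a domain with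
smooth generic fibre. -/
theorem exists_forall_isReduced_of_smooth [Algebra.Smooth K₀ (K₀ ⊗[R] C)] :
    ∃ a : R, a ≠ 0 ∧ ∀ (K : Type u) [Field K] [Algebra R K], algebraMap R K a ≠ 0 →
      IsReduced (K ⊗[R] C) := by
  obtain ⟨a₁, ha₁, -, -, ⟨C', _, _, hfp, π, hπ, hπker⟩, -⟩ :=
    Groth.Agent.Helper9.GenFree.generic_freeness_core R C C
  let R₁ := Localization.Away a₁
  haveI hFP : Algebra.FinitePresentation R₁ (R₁ ⊗[R] C) :=
    Groth.Agent.Helper9.GenFree.finitePresentation_tensor_of_torsion_ker a₁ π hπ hπker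
  have hle : Submonoid.powers a₁ ≤ nonZeroDivisors R :=
    powers_le_nonZeroDivisors_of_noZeroDivisors ha₁
  haveI : IsDomain R₁ := IsLocalization.isDomain_localization hle
  have hinj : Function.Injective (algebraMap R K₀) := IsFractionRing.injective R K₀
  have hu : IsUnit (algebraMap R K₀ a₁) :=
    IsUnit.mk0 _ (fun h0 => ha₁ (hinj (by rw [h0, map_zero])))
  letI algR₁K₀ : Algebra R₁ K₀ := (IsLocalization.Away.lift a₁ hu).toAlgebra
  haveI : IsScalarTower R R₁ K₀ :=
    IsScalarTower.of_algebraMap_eq' (IsLocalization.Away.lift_comp a₁ hu).symm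
  haveI : IsFractionRing R₁ K₀ :=
    IsFractionRing.isFractionRing_of_isDomain_of_isLocalization (Submonoid.powers a₁) R₁ K₀
  let e : K₀ ⊗[R₁] (R₁ ⊗[R] C) ≃ₐ[K₀] K₀ ⊗[R] C :=
    Algebra.TensorProduct.cancelBaseChange R R₁ K₀ K₀ C
  haveI : Algebra.Smooth K₀ (K₀ ⊗[R₁] (R₁ ⊗[R] C)) := Algebra.Smooth.of_equiv e.symm
  obtain ⟨a₂, ha₂, hK⟩ := exists_forall_isReduced_of_smooth_fp R₁ K₀ (R₁ ⊗[R] C)
  obtain ⟨⟨r₂, ⟨_, n, rfl⟩⟩, hr₂⟩ := IsLocalization.surj (Submonoid.powers a₁) a₂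
  have hr₂' : a₂ * algebraMap R R₁ (a₁ ^ n) = algebraMap R R₁ r₂ := hr₂
  have hr₂0 : r₂ ≠ 0 := by
    rintro rfl
    rw [map_zero] at hr₂'
    rcases mul_eq_zero.mp hr₂' with h | h
    · exact ha₂ h
    · have hinj₁ : Function.Injective (algebraMap R R₁) := IsLocalization.injective R₁ hle
      exact pow_ne_zero n ha₁ (hinj₁ (by rw [h, map_zero]))
  refine ⟨a₁ * r₂, mul_ne_zero ha₁ hr₂0, ?_⟩
  intro K _ _ haK
  rw [map_mul] at haK
  have ha₁K : algebraMap R K a₁ ≠ 0 := left_ne_zero_of_mul haK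
  have hr₂K : algebraMap R K r₂ ≠ 0 := right_ne_zero_of_mul haK
  letI algR₁K : Algebra R₁ K := (IsLocalization.Away.lift a₁ (IsUnit.mk0 _ ha₁K)).toAlgebra
  haveI : IsScalarTower R R₁ K :=
    IsScalarTower.of_algebraMap_eq' (IsLocalization.Away.lift_comp a₁ (IsUnit.mk0 _ ha₁K)).symm
  have h2 : algebraMap R₁ K a₂ ≠ 0 := by
    intro h0
    apply hr₂K
    rw [IsScalarTower.algebraMap_apply R R₁ K, ← hr₂', map_mul, h0, zero_mul]
  haveI := hK K h2
  let e' : K ⊗[R₁] (R₁ ⊗[R] C) ≃ₐ[K] K ⊗[R] C :=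
    Algebra.TensorProduct.cancelBaseChange R R₁ K K C
  exact isReduced_of_injective e'.symm.toRingHom e'.symm.injective

end GSR

end Groth.Agent.Helper7.GeomRedGen
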