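import Mathlib
import Groth.Agent.Lib.Helper7.GeomRedGen.Spread
import Groth.Agent.Lib.Helper7.SmoothBC.MinPrime
import Groth.Agent.Lib.Helper7.SchDense.Alg

/-! helper7: geometric reducedness of the generic fibre of a finite type algebra spreads out to
reducedness of all field valued fibres over a basic open (algebraic core). -/

set_option linter.style.haveILetI false
set_option linter.unusedVariables false
set_option linter.unusedSectionVars false
set_option autoImplicit false

open scoped TensorProduct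

namespace Groth.Agent.Helper7.GeomRedGen

universe u

section Domain

/-- Geometric reducedness of the generic fibre of a finite type algebra over a domain spreads
out to reducedness of all field valued fibres over a basic open. -/
theorem exists_forall_isReduced_of_isDomain {R : Type u} [CommRing R] [IsDomain R] {C : Type u}
    [CommRing C] [Algebra R C] [Algebra.FiniteType R C]
    (K₀ : Type u) [Field K₀] [Algebra R K₀] [IsFractionRing R K₀]
    (L : Type u) [Field L] [PerfectField L] [Algebra K₀ L] [Algebra R L] [IsScalarTower R K₀ L]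
    (h : IsReduced (L ⊗[R] C)) :
    ∃ a : R, a ≠ 0 ∧ ∀ (K : Type u) [Field K] [Algebra R K], algebraMap R K a ≠ 0 →
      IsReduced (K ⊗[R] C) := by
  classical
  set ι₀ : C → K₀ ⊗[R] C := fun c => (1 : K₀) ⊗ₜ[R] c with hι₀
  haveI : Algebra.FiniteType K₀ (K₀ ⊗[R] C) := inferInstance
  haveI : Algebra.FinitePresentation K₀ (K₀ ⊗[R] C) :=
    Algebra.FinitePresentation.of_finiteType.mp inferInstance
  haveI : IsNoetherianRing (K₀ ⊗[R] C) := Algebra.FiniteType.isNoetherianRing K₀ _
  let e : L ⊗[K₀] (K₀ ⊗[R] C) ≃ₐ[L] L ⊗[R] C :=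
    Algebra.TensorProduct.cancelBaseChange R K₀ L L C
  haveI hLred : IsReduced (L ⊗[K₀] (K₀ ⊗[R] C)) :=
    isReduced_of_injective e.toRingHom e.injective
  haveI hC₀red : IsReduced (K₀ ⊗[R] C) := by
    have hinj : Function.Injective
        (Algebra.TensorProduct.includeRight : K₀ ⊗[R] C →ₐ[K₀] L ⊗[K₀] (K₀ ⊗[R] C)) :=
      Algebra.TensorProduct.includeRight_injective (algebraMap K₀ L).injective
    exact isReduced_of_injective _ hinj
  have hmin : ∀ (p : Ideal (K₀ ⊗[R] C)) (hp : p.IsPrime), p ∈ minimalPrimes (K₀ ⊗[R] C) →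
      (⟨p, hp⟩ : PrimeSpectrum (K₀ ⊗[R] C)) ∈ Algebra.smoothLocus K₀ (K₀ ⊗[R] C) := by
    intro p hp hpmin
    haveI := hp
    haveI : IsReduced (L ⊗[K₀] Localization.AtPrime p) :=
      SmoothBC.isReduced_tensor_of_isLocalization K₀ L (K₀ ⊗[R] C) (Localization.AtPrime p)
        p.primeCompl
    exact SmoothBC.isSmoothAt_of_isReduced_tensor_of_minimal K₀ L (K₀ ⊗[R] C) p hpmin
      inferInstance
  let T₀ : Ideal (K₀ ⊗[R] C) :=
    PrimeSpectrum.vanishingIdeal (Algebra.smoothLocus K₀ (K₀ ⊗[R] C))ᶜ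
  have hcl : IsClosed ((Algebra.smoothLocus K₀ (K₀ ⊗[R] C))ᶜ) :=
    (Algebra.isOpen_smoothLocus (R := K₀) (A := K₀ ⊗[R] C)).isClosed_compl
  have hzl : PrimeSpectrum.zeroLocus (T₀ : Set (K₀ ⊗[R] C)) =
      (Algebra.smoothLocus K₀ (K₀ ⊗[R] C))ᶜ := by
    rw [PrimeSpectrum.zeroLocus_vanishingIdeal_eq_closure]
    exact hcl.closure_eq
  -- the annihilator of `T₀` vanishes
  have hann : ∀ d : K₀ ⊗[R] C, (∀ t ∈ T₀, d * t = 0) → d = 0 := by
    intro d hd
    have h1 : d ∈ (⊥ : Ideal (K₀ ⊗[R] C)).radical := by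
      rw [← Ideal.sInf_minimalPrimes, Submodule.mem_sInf]
      intro p hp
      have hpp : Ideal.IsPrime p := hp.1.1
      have h2 := hmin p hpp hp
      have h3 : (⟨p, hpp⟩ : PrimeSpectrum (K₀ ⊗[R] C)) ∉
          PrimeSpectrum.zeroLocus (T₀ : Set (K₀ ⊗[R] C)) := by
        rw [hzl]
        exact fun hn => hn h2
      rw [PrimeSpectrum.mem_zeroLocus, Set.not_subset] at h3
      obtain ⟨t, ht, htp⟩ := h3
      have h4 := hd t ht
      exact (hpp.mem_or_mem (by rw [h4]; exact p.zero_mem)).resolve_right htp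
    have h2 : IsNilpotent d := mem_nilradical.mp h1
    exact h2.eq_zero
  -- generators of `T₀` coming from `C`
  let s : Set C := {b | ι₀ b ∈ T₀}
  have hspan : Ideal.span (ι₀ '' s) = T₀ := by
    apply le_antisymm
    · rw [Ideal.span_le]
      rintro _ ⟨b, hb, rfl⟩
      exact hb
    · intro t ht
      obtain ⟨r, c, hr, hrc⟩ := NowDense.exists_smul_eq_tmul K₀ t
      have hc : c ∈ s := by
        change ι₀ c ∈ T₀
        rw [hι₀]
        change (1 : K₀) ⊗ₜ[R] c ∈ T₀
        rw [← hrc]
        exact Submodule.smul_of_tower_mem T₀ r ht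
      have hr' : algebraMap R K₀ r ≠ 0 := fun h0 =>
        hr ((IsFractionRing.injective R K₀) (by rw [h0, map_zero]))
      have h1 : t = (algebraMap R K₀ r)⁻¹ • ι₀ c := by
        change t = (algebraMap R K₀ r)⁻¹ • ((1 : K₀) ⊗ₜ[R] c)
        rw [← hrc, ← algebraMap_smul K₀ r t, smul_smul, inv_mul_cancel₀ hr', one_smul]
      rw [h1]
      exact Submodule.smul_of_tower_mem _ _ (Ideal.subset_span ⟨c, hc, rfl⟩)
  have hfg : (Submodule.span (K₀ ⊗[R] C) (ι₀ '' s)).FG := IsNoetherian.noetherian _
  obtain ⟨s', hs's, hs'span⟩ := (Submodule.fg_span_iff_fg_span_finset_subset (ι₀ '' s)).mp hfg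
  have hg : ∀ x : s', ∃ c ∈ s, ι₀ c = x := fun x => hs's x.2
  choose g hgs hgx using hg
  -- each localization has smooth generic fibre
  have hsm : ∀ i : s', Algebra.Smooth K₀ (K₀ ⊗[R] Localization.Away (g i)) := by
    intro i
    haveI : Algebra.Smooth K₀ (Localization.Away ((1 : K₀) ⊗ₜ[R] (g i))) := by
      rw [← Algebra.basicOpen_subset_smoothLocus_iff_smooth]
      intro u hu
      by_contra hns
      have h1 : u ∈ PrimeSpectrum.zeroLocus (T₀ : Set (K₀ ⊗[R] C)) := by
        rw [hzl]
        exact hns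
      rw [PrimeSpectrum.mem_zeroLocus] at h1
      exact hu (h1 (hgs i))
    exact smooth_tensor_away R K₀ C (g i) (Localization.Away (g i))
  have hex : ∀ i : s', ∃ a : R, a ≠ 0 ∧ ∀ (K : Type u) [Field K] [Algebra R K],
      algebraMap R K a ≠ 0 → IsReduced (K ⊗[R] Localization.Away (g i)) := by
    intro i
    haveI := hsm i
    haveI : Algebra.FiniteType C (Localization.Away (g i)) :=
      IsLocalization.finiteType_of_monoid_fg (Submonoid.powers (g i)) _
    haveI : Algebra.FiniteType R (Localization.Away (g i)) :=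
      Algebra.FiniteType.trans (inferInstance : Algebra.FiniteType R C) inferInstance
    exact exists_forall_isReduced_of_smooth R K₀ (Localization.Away (g i))
  choose a ha haK using hex
  -- the power torsion of the family in the generic fibre vanishes
  have h0 : ∀ c₀ : K₀ ⊗[R] C, (∀ b ∈ Set.range g, ∃ n : ℕ, ((1 : K₀) ⊗ₜ[R] b) ^ n * c₀ = 0) →
      c₀ = 0 := by
    intro c₀ hc₀
    refine SchDense.eq_zero_of_forall_pow_mul_eq_zero (fun i : s' => ι₀ (g i)) ?_ c₀
      (fun i => hc₀ _ ⟨i, rfl⟩)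
    intro d hd
    apply hann d
    have h2 : ∀ z ∈ Submodule.span (K₀ ⊗[R] C) ((s' : Finset (K₀ ⊗[R] C)) : Set (K₀ ⊗[R] C)),
        d * z = 0 := by
      intro z hz
      induction hz using Submodule.span_induction with
      | mem x hx =>
        have := hd ⟨x, hx⟩
        simp only [hgx] at this
        exact this
      | zero => exact mul_zero _
      | add x y hx hy ihx ihy => rw [mul_add, ihx, ihy, add_zero]
      | smul w x hx ih => rw [smul_eq_mul, mul_left_comm, ih, mul_zero]
    intro t ht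
    rw [← hspan] at ht
    apply h2
    rw [← hs'span]
    exact ht
  obtain ⟨a₀, ha₀, hK₀⟩ := SchDense.exists_forall_torsion_eq_zero_of_isDomain K₀ (Set.range g) h0
  refine ⟨a₀ * ∏ i, a i, mul_ne_zero ha₀ (Finset.prod_ne_zero_iff.mpr fun i _ => ha i), ?_⟩
  intro K _ _ hK
  rw [map_mul, map_prod] at hK
  have hK1 : algebraMap R K a₀ ≠ 0 := left_ne_zero_of_mul hK
  have hK2 : ∀ i, algebraMap R K (a i) ≠ 0 := fun i =>
    Finset.prod_ne_zero_iff.mp (right_ne_zero_of_mul hK) i (Finset.mem_univ i)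
  refine ⟨fun c hc => ?_⟩
  apply hK₀ K hK1 c
  rintro _ ⟨i, rfl⟩
  haveI := haK i K (hK2 i)
  have h1 : IsNilpotent (Algebra.TensorProduct.map (AlgHom.id R K)
      (IsScalarTower.toAlgHom R C (Localization.Away (g i))) c) := hc.map _
  exact exists_pow_mul_eq_zero_of_map_eq_zero R K C (g i) (Localization.Away (g i)) c h1.eq_zero

end Domain

/-- Geometric reducedness of the fibre of a finite type algebra over a minimal-type point spreads
out to reducedness of all field valued fibres over a basic open. -/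
theorem exists_forall_isReduced {A B : Type u} [CommRing A] [CommRing B] [Algebra A B]
    [Algebra.FiniteType A B] (K₀ : Type u) [Field K₀] [Algebra A K₀]
    (hfrac : ∀ z : K₀, ∃ s a : A, algebraMap A K₀ s ≠ 0 ∧
      algebraMap A K₀ s * z = algebraMap A K₀ a)
    (L : Type u) [Field L] [PerfectField L] [Algebra K₀ L] [Algebra A L] [IsScalarTower A K₀ L]
    (h : IsReduced (B ⊗[A] L)) :
    ∃ a : A, algebraMap A K₀ a ≠ 0 ∧ ∀ (K : Type u) [Field K] [Algebra A K],
      (∀ t : A, algebraMap A K₀ t = 0 → algebraMap A K t = 0) → algebraMap A K a ≠ 0 →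
      IsReduced (B ⊗[A] K) := by
  classical
  let p₀ : Ideal A := RingHom.ker (algebraMap A K₀)
  haveI : p₀.IsPrime := RingHom.ker_isPrime _
  let R := A ⧸ p₀
  let φ₀ : R →+* K₀ := RingHom.kerLift (algebraMap A K₀)
  have hφ₀ : Function.Injective φ₀ := RingHom.kerLift_injective _
  letI algRK₀ : Algebra R K₀ := φ₀.toAlgebra
  haveI : IsScalarTower A R K₀ := IsScalarTower.of_algebraMap_eq (fun t => rfl)
  haveI : FaithfulSMul R K₀ := (faithfulSMul_iff_algebraMap_injective R K₀).mpr hφ₀
  haveI : IsFractionRing R K₀ := IsFractionRing.of_field R K₀ (fun z => by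
    obtain ⟨s, a, hs, hsa⟩ := hfrac z
    refine ⟨Ideal.Quotient.mk p₀ a, Ideal.Quotient.mk p₀ s, ?_⟩
    change z = algebraMap A K₀ a / algebraMap A K₀ s
    rw [eq_div_iff hs, mul_comm]
    exact hsa)
  letI algRL : Algebra R L := ((algebraMap K₀ L).comp φ₀).toAlgebra
  haveI : IsScalarTower R K₀ L := IsScalarTower.of_algebraMap_eq (fun t => rfl)
  haveI : IsScalarTower A R L := IsScalarTower.of_algebraMap_eq (fun t => by
    change algebraMap A L t = algebraMap K₀ L (φ₀ (Ideal.Quotient.mk p₀ t))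
    rw [IsScalarTower.algebraMap_apply A K₀ L]
    rfl)
  let C := R ⊗[A] B
  have hred : IsReduced (L ⊗[R] C) := by
    let e : L ⊗[R] C ≃+* B ⊗[A] L :=
      (Algebra.TensorProduct.cancelBaseChange A R L L B).toRingEquiv.trans
        (Algebra.TensorProduct.comm A L B).toRingEquiv
    exact isReduced_of_injective e e.injective
  obtain ⟨a', ha', hK⟩ := exists_forall_isReduced_of_isDomain (R := R) (C := C) K₀ L hred
  obtain ⟨a, rfl⟩ := Ideal.Quotient.mk_surjective a'
  refine ⟨a, fun h0 => ha' (Ideal.Quotient.eq_zero_iff_mem.mpr h0), ?_⟩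
  intro K _ _ hker haK
  let φ : R →+* K := Ideal.Quotient.lift p₀ (algebraMap A K) (fun t ht => hker t ht)
  letI algRK : Algebra R K := φ.toAlgebra
  haveI : IsScalarTower A R K := IsScalarTower.of_algebraMap_eq (fun t => rfl)
  have haK' : algebraMap R K (Ideal.Quotient.mk p₀ a) ≠ 0 := haK
  haveI := hK K haK'
  let e : K ⊗[R] C ≃+* B ⊗[A] K :=
    (Algebra.TensorProduct.cancelBaseChange A R K K B).toRingEquiv.trans
      (Algebra.TensorProduct.comm A K B).toRingEquiv
  exact isReduced_of_injective e.symm e.symm.injective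

end Groth.Agent.Helper7.GeomRedGen
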