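import Mathlib
import Groth.Agent.Lib.Helper7.GeomRedGen.Alg
import Groth.Agent.Lib.Helper7.NonRed.GeomMain
import Groth.Agent.Lib.Helper7.NearGen.Main
import Groth.Agent.Lib.Helper7.CohStalk.PushforwardQC2
import Groth.Agent.Lib.Helper7.GeomFib

/-! helper7: a finite type morphism to an irreducible scheme with geometrically reduced generic
fibre has geometrically reduced fibres over a nonempty open. -/

set_option linter.style.haveILetI false
set_option linter.unusedVariables false
set_option linter.unusedSectionVars false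
set_option autoImplicit false
set_option backward.isDefEq.respectTransparency.types false

open CategoryTheory CategoryTheory.Limits AlgebraicGeometry TopologicalSpace
open scoped TensorProduct

namespace Groth.Agent.Helper7.GeomRedGen

universe u

open Groth.Agent.Helper7.NonRed

/-- If the affine charts of a base change coming from an affine cover are reduced then the base
change is reduced. -/
theorem isReduced_of_cover_charts {X Y P : Scheme.{u}} (f : X ⟶ Y) {V : Y.Opens}
    (hV : IsAffineOpen V) (K : Type u) [CommRing K] [Algebra Γ(Y, V) K] (fst : P ⟶ X)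
    (snd : P ⟶ Spec (.of K))
    (hP : IsPullback fst snd f
      (Spec.map (CommRingCat.ofHom (algebraMap Γ(Y, V) K)) ≫ hV.fromSpec))
    (t : Finset X.Opens) (ht1 : ∀ W ∈ t, IsAffineOpen W ∧ W ≤ f ⁻¹ᵁ V)
    (ht2 : ∀ x ∈ f ⁻¹ᵁ V, ∃ W ∈ t, x ∈ W)
    (H : ∀ (W : X.Opens) (hW : W ∈ t),
      letI := (f.appLE V W (ht1 W hW).2).hom.toAlgebra
      _root_.IsReduced (Γ(X, W) ⊗[Γ(Y, V)] K)) :
    IsReduced P := by
  have hst : ∀ z : P, _root_.IsReduced (P.presheaf.stalk z) := by
    intro z
    have hxV : fst z ∈ f ⁻¹ᵁ V := by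
      change f (fst z) ∈ V
      have h1 : f (fst z) = hV.fromSpec
          ((Spec.map (CommRingCat.ofHom (algebraMap Γ(Y, V) K))) (snd z)) := by
        rw [← Scheme.Hom.comp_apply, hP.w, Scheme.Hom.comp_apply, Scheme.Hom.comp_apply]
      rw [h1]
      have h2 : hV.fromSpec ((Spec.map (CommRingCat.ofHom (algebraMap Γ(Y, V) K))) (snd z)) ∈
          Set.range hV.fromSpec := ⟨_, rfl⟩
      rw [hV.range_fromSpec] at h2
      exact h2
    obtain ⟨W, hWt, hxW⟩ := ht2 _ hxV
    letI := (f.appLE V W (ht1 W hWt).2).hom.toAlgebra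
    obtain ⟨l, hl, -, hrange⟩ := pullbackChart f hV (ht1 W hWt).1 (ht1 W hWt).2 K fst snd hP
    haveI := hl
    have hz : z ∈ Set.range l := by
      rw [hrange]; exact hxW
    obtain ⟨w, rfl⟩ := hz
    haveI : _root_.IsReduced (Γ(X, W) ⊗[Γ(Y, V)] K) := H W hWt
    haveI : IsReduced (Spec (.of (Γ(X, W) ⊗[Γ(Y, V)] K))) := inferInstance
    exact isReduced_of_injective _
      (asIso <| l.stalkMap w).commRingCatIsoToRingEquiv.injective
  exact isReduced_of_isReduced_stalk _

section Chart

variable {X Y : Scheme.{u}} (f : X ⟶ Y) {V : Y.Opens} (hV : IsAffineOpen V)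
  {W : X.Opens} (hW : IsAffineOpen W) (e : W ≤ f ⁻¹ᵁ V)

include hV hW e in
/-- The charts of the geometric generic fibre are reduced. -/
theorem isReduced_generic_chart (y : Y) (hy : y ∈ V)
    (h : GeometricallyReduced (f.fiberToSpecResidueField y))
    (L : Type u) [Field L] (ψ : Y.residueField y ⟶ .of L) :
    letI := (f.appLE V W e).hom.toAlgebra
    letI : Algebra Γ(Y, V) L := (Y.evaluation V y hy ≫ ψ).hom.toAlgebra
    _root_.IsReduced (Γ(X, W) ⊗[Γ(Y, V)] L) := by
  letI := (f.appLE V W e).hom.toAlgebra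
  letI algL : Algebra Γ(Y, V) L := (Y.evaluation V y hy ≫ ψ).hom.toAlgebra
  have hfib : IsPullback (f.fiberι y) (f.fiberToSpecResidueField y) f
      (Y.fromSpecResidueField y) := IsPullback.of_hasPullback _ _
  have hsq : IsPullback (pullback.fst (f.fiberToSpecResidueField y) (Spec.map ψ))
      (pullback.snd (f.fiberToSpecResidueField y) (Spec.map ψ))
      (f.fiberToSpecResidueField y) (Spec.map ψ) := IsPullback.of_hasPullback _ _
  have hP : IsPullback
      (pullback.fst (f.fiberToSpecResidueField y) (Spec.map ψ) ≫ f.fiberι y)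
      (pullback.snd (f.fiberToSpecResidueField y) (Spec.map ψ)) f
      (Spec.map (CommRingCat.ofHom (algebraMap Γ(Y, V) L)) ≫ hV.fromSpec) := by
    rw [← comp_fromSpecResidueField_eq hV y hy L ψ]
    exact hsq.paste_horiz hfib
  have hred : IsReduced (pullback (f.fiberToSpecResidueField y) (Spec.map ψ)) :=
    h.geometrically_isReduced (Spec.map ψ) _ _ hsq
  by_contra hnr
  exact not_isReduced_of_chart f hV L _ _ hP W hW e hnr hred

include hV hW e in
/-- Reducedness of one chart of all geometric fibres near the generic point. -/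
theorem exists_of_chart [IrreducibleSpace Y] [LocallyOfFiniteType f]
    (hη : genericPoint Y ∈ V)
    (h : GeometricallyReduced (f.fiberToSpecResidueField (genericPoint Y))) :
    ∃ a : Γ(Y, V), genericPoint Y ∈ Y.basicOpen a ∧
      ∀ (y : Y) (hy : y ∈ V), y ∈ Y.basicOpen a →
        ∀ (K : Type u) [Field K] (ψ : Y.residueField y ⟶ .of K),
        letI := (f.appLE V W e).hom.toAlgebra
        letI : Algebra Γ(Y, V) K := (Y.evaluation V y hy ≫ ψ).hom.toAlgebra
        _root_.IsReduced (Γ(X, W) ⊗[Γ(Y, V)] K) := by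
  letI algB : Algebra Γ(Y, V) Γ(X, W) := (f.appLE V W e).hom.toAlgebra
  letI algK₀ : Algebra Γ(Y, V) (Y.residueField (genericPoint Y)) :=
    (Y.evaluation V (genericPoint Y) hη).hom.toAlgebra
  haveI : Algebra.FiniteType Γ(Y, V) Γ(X, W) :=
    LocallyOfFiniteType.finiteType_appLE f hV hW e
  have hfrac : ∀ z : Y.residueField (genericPoint Y), ∃ s a : Γ(Y, V),
      algebraMap Γ(Y, V) (Y.residueField (genericPoint Y)) s ≠ 0 ∧
      algebraMap Γ(Y, V) (Y.residueField (genericPoint Y)) s * z =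
        algebraMap Γ(Y, V) (Y.residueField (genericPoint Y)) a := by
    intro z
    obtain ⟨s, a, hs, hsa⟩ :=
      Groth.Agent.Lib.Helper4.RadBir3.exists_frac_rho hV (genericPoint Y) hη z
    refine ⟨s, a, ?_, hsa⟩
    intro h0
    apply hs
    rw [← Groth.Agent.Lib.Helper4.NormFibre2.ker_rho hV (genericPoint Y) hη, RingHom.mem_ker]
    exact h0
  obtain ⟨L, hLf, hLalg, hLperf⟩ : ∃ (L : Type u) (_ : Field L)
      (_ : Algebra (Y.residueField (genericPoint Y)) L), PerfectField L :=
    ⟨AlgebraicClosure (Y.residueField (genericPoint Y)), inferInstance, inferInstance,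
      inferInstance⟩
  let ψ₀ : Y.residueField (genericPoint Y) ⟶ .of L :=
    CommRingCat.ofHom (algebraMap (Y.residueField (genericPoint Y)) L)
  letI algL : Algebra Γ(Y, V) L := (Y.evaluation V (genericPoint Y) hη ≫ ψ₀).hom.toAlgebra
  haveI : IsScalarTower Γ(Y, V) (Y.residueField (genericPoint Y)) L :=
    IsScalarTower.of_algebraMap_eq (fun t => rfl)
  have hred : _root_.IsReduced (Γ(X, W) ⊗[Γ(Y, V)] L) :=
    isReduced_generic_chart f hV hW e (genericPoint Y) hη h L ψ₀
  obtain ⟨a, ha, hK⟩ := exists_forall_isReduced (A := Γ(Y, V)) (B := Γ(X, W))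
    (Y.residueField (genericPoint Y)) hfrac L hred
  have hηa : genericPoint Y ∈ Y.basicOpen a :=
    (Y.evaluation_ne_zero_iff_mem_basicOpen (genericPoint Y) hη a).mp ha
  refine ⟨a, hηa, fun y hyV hya K _ ψ => ?_⟩
  letI algK : Algebra Γ(Y, V) K := (Y.evaluation V y hyV ≫ ψ).hom.toAlgebra
  have hψinj : Function.Injective ψ.hom := ψ.hom.injective
  have hev : ∀ t : Γ(Y, V), algebraMap Γ(Y, V) K t =
      ψ.hom ((Y.evaluation V y hyV).hom t) := fun t => rfl
  apply hK K
  · intro t ht
    rw [hev]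
    have h0 : (Y.evaluation V y hyV).hom t = 0 := by
      by_contra hne
      have h1 : y ∈ Y.basicOpen t := (Y.evaluation_ne_zero_iff_mem_basicOpen y hyV t).mp hne
      have h2 : genericPoint Y ∈ Y.basicOpen t :=
        ((genericPoint_spec Y).mem_open_set_iff (Y.basicOpen t).isOpen).mpr ⟨y, trivial, h1⟩
      exact (Y.evaluation_ne_zero_iff_mem_basicOpen (genericPoint Y) hη t).mpr h2 ht
    rw [h0, map_zero]
  · rw [hev]
    intro h0
    have h1 : (Y.evaluation V y hyV).hom a = 0 := hψinj (by rw [h0, map_zero])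
    exact (Y.evaluation_ne_zero_iff_mem_basicOpen y hyV a).mpr hya h1

end Chart

/-- A finite type morphism to an irreducible scheme with geometrically reduced generic fibre has
geometrically reduced fibres over a neighbourhood of the generic point. -/
theorem geometricallyReduced_fibres_near_generic {X Y : Scheme.{u}} (f : X ⟶ Y)
    [IrreducibleSpace Y] [LocallyOfFiniteType f] [QuasiCompact f]
    (h : GeometricallyReduced (f.fiberToSpecResidueField (genericPoint Y))) :
    ∃ V : Y.Opens, genericPoint Y ∈ V ∧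
      ∀ y ∈ V, GeometricallyReduced (f.fiberToSpecResidueField y) := by
  classical
  obtain ⟨V₀, hV₀, hηV₀⟩ : ∃ V : Y.Opens, IsAffineOpen V ∧ genericPoint Y ∈ V := by
    obtain ⟨_, ⟨V, hV, rfl⟩, hy, -⟩ := (Y.isBasis_affineOpens).exists_subset_of_mem_open
      (Set.mem_univ (genericPoint Y)) isOpen_univ
    exact ⟨V, hV, hy⟩
  have hcomp : IsCompact ((f ⁻¹ᵁ V₀ : X.Opens) : Set X) :=
    QuasiCompact.isCompact_preimage (f := f) _ V₀.isOpen hV₀.isCompact
  obtain ⟨t, ht1, ht2⟩ :=
    Groth.Agent.Helper7.FinType.exists_finset_affine_cover (f ⁻¹ᵁ V₀) hcomp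
  have hex : ∀ W : t, ∃ a : Γ(Y, V₀), genericPoint Y ∈ Y.basicOpen a ∧
      ∀ (y : Y) (hy : y ∈ V₀), y ∈ Y.basicOpen a →
        ∀ (K : Type u) [Field K] (ψ : Y.residueField y ⟶ .of K),
        letI := (f.appLE V₀ W.1 (ht1 W.1 W.2).2).hom.toAlgebra
        letI : Algebra Γ(Y, V₀) K := (Y.evaluation V₀ y hy ≫ ψ).hom.toAlgebra
        _root_.IsReduced (Γ(X, W.1) ⊗[Γ(Y, V₀)] K) := fun W =>
    exists_of_chart f hV₀ (ht1 W.1 W.2).1 (ht1 W.1 W.2).2 hηV₀ h
  choose a ha1 ha2 using hex
  refine ⟨Y.basicOpen (∏ W : t, a W),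
    (Groth.Agent.Helper7.NearGen.mem_basicOpen_prod a _ hηV₀).mpr ha1, ?_⟩
  intro y hy
  have hyV₀ : y ∈ V₀ := Y.basicOpen_le _ hy
  refine ⟨fun K _ y' Z fst snd hZ => ?_⟩
  let ψ : Y.residueField y ⟶ .of K := Spec.preimage y'
  have hψ : Spec.map ψ = y' := Spec.map_preimage y'
  letI algK : Algebra Γ(Y, V₀) K := (Y.evaluation V₀ y hyV₀ ≫ ψ).hom.toAlgebra
  have hfib : IsPullback (f.fiberι y) (f.fiberToSpecResidueField y) f
      (Y.fromSpecResidueField y) := IsPullback.of_hasPullback _ _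
  have hP : IsPullback (fst ≫ f.fiberι y) snd f
      (Spec.map (CommRingCat.ofHom (algebraMap Γ(Y, V₀) K)) ≫ hV₀.fromSpec) := by
    rw [← comp_fromSpecResidueField_eq hV₀ y hyV₀ K ψ, hψ]
    exact hZ.paste_horiz hfib
  refine isReduced_of_cover_charts f hV₀ K _ snd hP t ht1 ht2 ?_
  intro W hWt
  exact ha2 ⟨W, hWt⟩ y hyV₀
    ((Groth.Agent.Helper7.NearGen.mem_basicOpen_prod a _ hyV₀).mp hy ⟨W, hWt⟩) K ψ

/-- S0434. -/
theorem geometricallyReduced_morphismRestrict_near_generic {X Y : Scheme.{u}} (f : X ⟶ Y)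
    [IrreducibleSpace Y] [LocallyOfFiniteType f] [QuasiCompact f]
    (h : GeometricallyReduced (f.fiberToSpecResidueField (genericPoint Y))) :
    ∃ V : Y.Opens, (V : Set Y).Nonempty ∧ GeometricallyReduced (f ∣_ V) := by
  obtain ⟨V, hηV, hV⟩ := geometricallyReduced_fibres_near_generic f h
  refine ⟨V, ⟨_, hηV⟩, ?_⟩
  rw [GeometricallyReduced.eq_geometrically, geometrically_iff_forall_fiberToSpecResidueField]
  intro y'
  have hset := Groth.Agent.Helper7.GeomFib.main9735 f V.ι (f ∣_ V) (f ⁻¹ᵁ V).ι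
    (isPullback_morphismRestrict f V).flip
  have hmem : y' ∈ {y' : ↑(V : Scheme.{u}) |
      GeometricallyReduced ((f ∣_ V).fiberToSpecResidueField y')} := by
    rw [hset]
    exact hV _ y'.2
  rw [← GeometricallyReduced.eq_geometrically]
  exact hmem

end Groth.Agent.Helper7.GeomRedGen
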